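import Groth.Prelude.Def_KRR
import Groth.Agent.KFlat.LocFree
import Groth.Agent.KFlat.StalkTensor
import Groth.Agent.Props.QProj
import Groth.Agent.PullStalk.Basic
import Groth.Agent.S3203

/-!
# Pull-back on `K₀` of finite locally free modules
-/

set_option autoImplicit false

universe u v

open CategoryTheory CategoryTheory.Limits AlgebraicGeometry
open Groth.Agent.PullStalk.Sky Groth.Agent.PullStalk.Exact

noncomputable section

namespace Groth.Agent.KRRLib

open Groth.Agent.PullStalk

variable {X Y : Scheme.{u}} (f : X ⟶ Y)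

theorem stalkLin_unitStalkHom {M N : Y.Modules} (φ : M ⟶ N) (x : X) (t : M.presheaf.stalk (f x)) :
    stalkLin ((Scheme.Modules.pullback f).map φ) x (Basic.unitStalkHom f M x t) =
      Basic.unitStalkHom f N x (stalkLin φ (f x) t) := by
  obtain ⟨U, hx, m, rfl⟩ := exists_germM_eq M (f x) t
  rw [Basic.unitStalkHom_germ, stalkLin_germ, stalkLin_germ, Basic.unitStalkHom_germ]
  exact congrArg _ (congrArg (fun ψ => Scheme.Modules.Hom.app ψ U m)
    ((Scheme.Modules.pullbackPushforwardAdjunction f).unit.naturality φ)).symm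

/-- The pullback of a short exact sequence with locally free quotient is short exact. -/
theorem shortExact_pull {S : ShortComplex Y.Modules} (hS : S.ShortExact)
    (h₃ : FlatMod.IsFinLocFree S.X₃) : (S.map (Scheme.Modules.pullback f)).ShortExact := by
  haveI : (Scheme.Modules.pullback f).IsLeftAdjoint :=
    (Scheme.Modules.pullbackPushforwardAdjunction f).isLeftAdjoint
  haveI : PreservesFiniteColimits (Scheme.Modules.pullback f) := inferInstance
  haveI : Epi S.g := hS.epi_g
  haveI : Mono ((Scheme.Modules.pullback f).map S.f) := by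
    refine KFlat.StalkTensor.mono_of_stalk_injective _ fun x => ?_
    haveI := PerfTri.Betti.isQuasicoherent_of_isFinLocFree h₃
    haveI := (Props.QProj.free_stalk _ h₃ (f x)).1
    obtain ⟨hi, he, hs⟩ := stalk_exact hS (f x)
    obtain ⟨σ, hσ⟩ := Module.projective_lifting_property (stalkLin S.g (f x)) LinearMap.id hs
    obtain ⟨e, he₁, he₂⟩ := he.splitSurjectiveEquiv hi ⟨σ, hσ⟩
    let r := (LinearMap.fst _ _ _).comp e.toLinearMap
    have hr : ∀ t, r (stalkLin S.f (f x) t) = t := fun t => by
      show (e (stalkLin S.f (f x) t)).1 = t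
      rw [he₁]
      simp
    letI := (f.stalkMap x).hom.toAlgebra
    letI := Basic.moduleOver f S.X₂ x
    letI := Basic.moduleOver f S.X₁ x
    haveI : IsScalarTower (Y.presheaf.stalk (f x)) (X.presheaf.stalk x)
        (((Scheme.Modules.pullback f).obj S.X₂).presheaf.stalk x) :=
      IsScalarTower.of_algebraMap_smul fun _ _ => rfl
    haveI : IsScalarTower (Y.presheaf.stalk (f x)) (X.presheaf.stalk x)
        (((Scheme.Modules.pullback f).obj S.X₁).presheaf.stalk x) :=
      IsScalarTower.of_algebraMap_smul fun _ _ => rfl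
    let R := (Basic.isBaseChange_unitStalk f S.X₂ x).lift ((Basic.unitStalk f S.X₁ x).comp r)
    have hR : R.comp (stalkLin ((Scheme.Modules.pullback f).map S.f) x) = LinearMap.id := by
      refine Basic.hom_eq_of_unitStalk f _ _ fun t => ?_
      rw [LinearMap.comp_apply, stalkLin_unitStalkHom, LinearMap.id_apply]
      exact ((Basic.isBaseChange_unitStalk f S.X₂ x).lift_eq _ _).trans
        (congrArg (Basic.unitStalkHom f S.X₁ x) (hr t))
    exact Function.LeftInverse.injective (g := R) fun t => LinearMap.congr_fun hR t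
  exact { exact := hS.exact.map_of_epi_of_preservesCokernel _ hS.epi_g inferInstance
          mono_f := inferInstanceAs (Mono ((Scheme.Modules.pullback f).map S.f))
          epi_g := inferInstanceAs (Epi ((Scheme.Modules.pullback f).map S.g)) }

variable {KX KY : Type v} [CommRing KX] [CommRing KY]

/-- Pull-back exists and is unique. -/
theorem existsUnique_isPull (φX : SGA6.Kvb X →+ KX) (φY : SGA6.Kvb Y →+ KY) (hY : Function.Bijective φY) :
    ∃! g : KY →+ KX, KRR.IsPull f φY φX g := by
  obtain ⟨F, hF⟩ := S3203.exists_desc (X := Y)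
    (fun E _ => φX (KRR.cl X ((Scheme.Modules.pullback f).obj E))) fun S h₁ h₂ h₃ hS => by
      rw [← map_add]
      exact congrArg φX (ResK0.Basic.clSub_add _ (shortExact_pull f hS h₃) (KFlat.LocFree.isFinLocFree_pull f h₁)
        (KFlat.LocFree.isFinLocFree_pull f h₂) (KFlat.LocFree.isFinLocFree_pull f h₃))
  let e := AddEquiv.ofBijective φY hY
  refine ⟨F.comp e.symm.toAddMonoidHom, fun E hE => ?_, fun g hg => ?_⟩
  · show F (e.symm (φY (KRR.cl Y E))) = _
    rw [show φY (KRR.cl Y E) = e (KRR.cl Y E) from rfl, e.symm_apply_apply]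
    exact hF E hE
  · have h : g.comp φY = F := S3203.kvb_ext fun E hE => (hg E hE).trans (hF E hE).symm
    refine AddMonoidHom.ext fun y => ?_
    obtain ⟨z, rfl⟩ := hY.2 y
    show g (φY z) = F (e.symm (φY z))
    rw [show φY z = e z from rfl, e.symm_apply_apply]
    exact DFunLike.congr_fun h z

end Groth.Agent.KRRLib
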