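import Groth.Prelude.Def_KRR
import Groth.Agent.RDerLES
import Groth.Agent.ModShf.Flasque
import Groth.Agent.ProjTwist.Pn.Twist
import Groth.Agent.KFlat.PullTensor
import Groth.Agent.KFlat.ProjFormula
import Groth.Agent.KFlat.QCohAcy
import Groth.Agent.PicCl.Basic

/-!
# Regular sheaves on projective space over a base and short exact sequences
-/

set_option autoImplicit false

universe u

open CategoryTheory CategoryTheory.Limits AlgebraicGeometry

noncomputable section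

namespace Groth.Agent.KRRLib

variable {n : ℕ} {T : Scheme.{u}}

/-- the projection to projective space over the integers -/
abbrev toPZ (n : ℕ) (T : Scheme.{u}) : KRR.PY n T ⟶ CohB1.ProjSpace n (ULift.{u} ℤ) :=
  pullback.fst (CohB1.ProjSpace.toSpec n (ULift.{u} ℤ)) (specULiftZIsTerminal.from T)

/-- twisting as a functor -/
abbrev twFun (n : ℕ) (T : Scheme.{u}) (d : ℤ) : (KRR.PY n T).Modules ⥤ (KRR.PY n T).Modules :=
  (DCoh.tensorBi (X := KRR.PY n T)).obj (Twist.twistOver n T d)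

theorem isInvertible_twistOver (d : ℤ) : PicF.IsInvertible (Twist.twistOver n T d) :=
  PicCl.isInvertible_pullback (toPZ n T) (ProjTwist.isInvertible_twistProjSpace n (ULift.{u} ℤ) d)

theorem shortExact_tw {S : ShortComplex (KRR.PY n T).Modules} (hS : S.ShortExact) (d : ℤ) :
    (S.map (twFun n T d)).ShortExact :=
  CohDev.tens_shortExact (ProjTwist.isFinLocFreeOfRank_one (isInvertible_twistOver d)) hS

/-- twists add -/
def twistAdd (a b c : ℤ) (h : a + b = c) :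
    CohB1.tensorMod (Twist.twistOver n T a) (Twist.twistOver n T b) ≅ Twist.twistOver n T c :=
  (KFlat.PullTensor.pullTensorIso (toPZ n T) (Twist.twistProjSpace n (ULift.{u} ℤ) a)
      (Twist.twistProjSpace n (ULift.{u} ℤ) b)).symm ≪≫
    (Scheme.Modules.pullback (toPZ n T)).mapIso
      ((ProjTwist.nonempty_twistProjSpace_tensor n (ULift.{u} ℤ) a b).some ≪≫ eqToIso (by rw [h]))

/-- `F(a)(b) ≅ F(a + b)` -/
def twTw (F : (KRR.PY n T).Modules) (a b c : ℤ) (h : b + a = c) :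
    KRR.twF n T b (KRR.twF n T a F) ≅ KRR.twF n T c F :=
  (ProjTwist.tensAssoc (Twist.twistOver n T b) (Twist.twistOver n T a) F).symm ≪≫
    ProjTwist.tensCongr (twistAdd b a c h) (Iso.refl F)

/-- `O(0) ≅ O` -/
def twistZero : Twist.twistOver n T 0 ≅ Coh.structureModule (KRR.PY n T) :=
  (Scheme.Modules.pullback (toPZ n T)).mapIso
      (ProjTwist.twistZeroIso (CohB1.polyGrading n (ULift.{u} ℤ))).symm ≪≫
    QCoh.pullbackUnitIso (toPZ n T)

/-- twisting by zero does nothing -/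
def twFunZero : twFun n T 0 ≅ 𝟭 (KRR.PY n T).Modules :=
  (DCoh.tensorBi (X := KRR.PY n T)).mapIso twistZero ≪≫
    ((KFlat.tensorBiFlipIso (O := (KRR.PY n T).sheaf)).app (Coh.structureModule (KRR.PY n T))).symm ≪≫
      KFlat.ProjFormula.unitRight (KRR.PY n T)

/-- the long exact sequence of higher direct images -/
abbrev les (n : ℕ) (T : Scheme.{u}) := RDerLES.derivedLES (Coh.pushAb (KRR.pr n T))

theorem shortExact_ab {S : ShortComplex (KRR.PY n T).Modules} (hS : S.ShortExact) (d : ℤ) :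
    ((S.map (twFun n T d)).map (ModShf.toAbFunctor (KRR.PY n T))).ShortExact :=
  KFlat.QCohAcy.shortExact_toAb (shortExact_tw hS d)

theorem isZero_congr {F G : (KRR.PY n T).Modules} (e : F ≅ G) (i : ℕ)
    (h : IsZero ((Coh.RpushAb (KRR.pr n T) i).obj (Coh.toAb F))) :
    IsZero ((Coh.RpushAb (KRR.pr n T) i).obj (Coh.toAb G)) :=
  h.of_iso ((Coh.RpushAb (KRR.pr n T) i).mapIso ((ModShf.toAbFunctor (KRR.PY n T)).mapIso e.symm))

variable {S : ShortComplex (KRR.PY n T).Modules}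

theorem reg_middle (hS : S.ShortExact) (h₁ : KRR.IsRegSheaf n T S.X₁) (h₃ : KRR.IsRegSheaf n T S.X₃) :
    KRR.IsRegSheaf n T S.X₂ := fun i hi =>
  ((les n T).exact₂ _ (shortExact_ab hS _) i).isZero_of_both_zeros
    ((h₁ i hi).eq_of_src _ _) ((h₃ i hi).eq_of_tgt _ _)

theorem reg_right (hS : S.ShortExact) (h₂ : KRR.IsRegSheaf n T S.X₂)
    (h₁ : KRR.IsRegSheaf n T (KRR.twF n T 1 S.X₁)) : KRR.IsRegSheaf n T S.X₃ := fun i hi =>
  ((les n T).exact₃ _ (shortExact_ab hS _) i (i + 1) rfl).isZero_of_both_zeros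
    ((h₂ i hi).eq_of_src _ _)
    ((isZero_congr (twTw S.X₁ 1 (-((i + 1 : ℕ) : ℤ)) (-(i : ℤ)) (by push_cast; ring)) (i + 1)
      (h₁ (i + 1) (by omega))).eq_of_tgt _ _)

theorem reg_left (hS : S.ShortExact) (h₂ : KRR.IsRegSheaf n T (KRR.twF n T 1 S.X₂))
    (h₃ : KRR.IsRegSheaf n T S.X₃) (hepi : Epi ((Scheme.Modules.pushforward (KRR.pr n T)).map S.g)) :
    KRR.IsRegSheaf n T (KRR.twF n T 1 S.X₁) := by
  intro i hi
  obtain ⟨j, rfl⟩ : ∃ j, i = j + 1 := ⟨i - 1, by omega⟩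
  refine isZero_congr (twTw S.X₁ 1 (-((j + 1 : ℕ) : ℤ)) (-(j : ℤ)) (by push_cast; ring)).symm _ ?_
  refine ((les n T).exact₁ _ (shortExact_ab hS (-(j : ℤ))) j (j + 1) rfl).isZero_of_both_zeros ?_
    ((isZero_congr (twTw S.X₂ 1 (-((j + 1 : ℕ) : ℤ)) (-(j : ℤ)) (by push_cast; ring)) _
      (h₂ (j + 1) (by omega))).eq_of_tgt _ _)
  cases j with
  | succ j => exact (h₃ (j + 1) (by omega)).eq_of_src _ _
  | zero =>
    have hm : Epi ((Coh.pushAb (KRR.pr n T)).map ((ModShf.toAbFunctor (KRR.PY n T)).map S.g)) := by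
      have := (ModShf.toAbFunctor T).map_epi ((Scheme.Modules.pushforward (KRR.pr n T)).map S.g)
      exact this
    let e : twFun n T (-((0 : ℕ) : ℤ)) ⋙ ModShf.toAbFunctor (KRR.PY n T) ⋙ (Coh.pushAb (KRR.pr n T)).rightDerived 0 ≅
        ModShf.toAbFunctor (KRR.PY n T) ⋙ Coh.pushAb (KRR.pr n T) :=
      Functor.isoWhiskerRight (eqToIso (by simp) ≪≫ twFunZero) _ ≪≫
        Functor.leftUnitor _ ≪≫ Functor.isoWhiskerLeft _ (Coh.pushAb (KRR.pr n T)).rightDerivedZeroIsoSelf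
    have : Epi ((twFun n T (-((0 : ℕ) : ℤ)) ⋙ ModShf.toAbFunctor (KRR.PY n T) ⋙
        (Coh.pushAb (KRR.pr n T)).rightDerived 0).map S.g) := by
      have hmap : Epi ((ModShf.toAbFunctor (KRR.PY n T) ⋙ Coh.pushAb (KRR.pr n T)).map S.g) := hm
      rw [← NatIso.naturality_2 e S.g]
      infer_instance
    exact (cancel_epi ((twFun n T (-((0 : ℕ) : ℤ)) ⋙ ModShf.toAbFunctor (KRR.PY n T) ⋙
        (Coh.pushAb (KRR.pr n T)).rightDerived 0).map S.g)).1
      (((les n T).comp_δ _ (shortExact_ab hS (-((0 : ℕ) : ℤ))) 0 1 rfl).trans comp_zero.symm)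

end Groth.Agent.KRRLib
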